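import Cfsg.Agent.H539.B3.FrameElt
import Cfsg.Agent.H126.SepOrth
import Cfsg.Agent.ClassicalGeometry.OrthDickson

/-!
# Separation in characteristic two (helper539, task 2823 of helper233, S5761)

* `sepSp_two` : the symplectic separation `SepSp 2 F m`, `m ≥ 2`;
* `sepO_two` : a 2-group `Γ` of semisimilarities of a nondegenerate quadratic form in dimension `2 N ≥ 6` has a conjugate
  under `Ω` meeting `F^* Γ` in at most two elements.
-/

set_option autoImplicit false
set_option linter.unusedSectionVars false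
set_option linter.unusedVariables false

namespace Cfsg.Agent.H539.B3

open Module Cfsg.Agent.H903.SylSemi Cfsg.Agent.H126.SepStep Cfsg.Agent.H126.SepMain Cfsg.Agent.H126.SepForm
  Cfsg.Agent.H126.SepInd

universe u v

section symp

variable {F : Type u} [Field F]

theorem sympForm_val (m : ℕ) (u v : Fin m ⊕ Fin m → F) :
    Cfsg.sympForm m F u v = ∑ i, (u (Sum.inr i) * v (Sum.inl i) - u (Sum.inl i) * v (Sum.inr i)) := by
  rw [Cfsg.sympForm, Matrix.J, Matrix.fromBlocks_mulVec, dotProduct, Fintype.sum_sum_type, Finset.sum_sub_distrib]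
  simp [Matrix.neg_mulVec]
  ring

theorem sympForm_DF [CharP F 2] [Finite F] (m : ℕ) : DF (F := F) 0 (Cfsg.sympForm m F) (fun _ => 0) := by
  have h1 : EH (1 : F ≃+* F) 1 (Cfsg.sympForm m F) := by
    have := Cfsg.Agent.H126.SepSpSU.sympForm_EH m F
    rwa [CharTwo.neg_eq] at this
  refine ⟨h1, fun v => ?_, rfl, fun _ _ _ _ _ => rfl, fun _ _ _ _ => ⟨0, rfl⟩, fun U hU => ?_⟩
  · rw [sympForm_val]
    apply Finset.sum_eq_zero
    intro i _
    ring
  · have hF : Fact (Nat.Prime 2) := ⟨Nat.prime_two⟩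
    have h3 : Nat.card {v : U // (0 : F) = 0} = Nat.card U := Nat.card_congr (Equiv.subtypeUnivEquiv fun _ => rfl)
    have h4 : Finite (Fin m ⊕ Fin m → F) := inferInstance
    rw [h3, Module.natCard_eq_pow_finrank (K := F)]
    exact dvd_pow (dvd_card (p := 2)) hU.ne'

/-- The scalars. -/
def uuF (n : ℕ) (w : Fˣ) (i : Fin n) : Fˣ := if (i : ℕ) = 1 then w else 1

/-- **Symplectic separation in characteristic two.** -/
theorem sepSp_two {F : Type} [Field F] [Fintype F] [CharP F 2] {m : ℕ} (hm : 2 ≤ m) : SepSp 2 F m := by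
  intro Γ hΓ hsim _
  have hPF : PSF 2 F (Cfsg.sympForm m F) Γ := ⟨hΓ, hsim⟩
  have hP : PQ (Cfsg.sympForm m F) (fun _ => 0) Γ := ⟨hPF, fun _ _ _ h => h⟩
  have hD := sympForm_DF (F := F) m
  have hfin : finrank F (Fin m ⊕ Fin m → F) = 2 * m := by
    rw [finrank_fintype_fun_eq_card, Fintype.card_sum, Fintype.card_fin, two_mul]
  obtain ⟨e, f, hF⟩ := exists_frame m hD (by omega) hP
  obtain ⟨w, hw⟩ := exists_gen (F := F)
  obtain ⟨g, hg, hgef⟩ := exists_g hD.eh hD.alt hF (fun _ _ _ _ _ _ _ => rfl) (uuF m w)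
  refine ⟨g, ⟨hg.1, hg.2.1⟩, ?_⟩
  rintro y hy ⟨a, ha⟩
  obtain ⟨θ, τ, hτ, hθ, hs⟩ := hsim y hy
  obtain ⟨k1, k2, k3⟩ := linear_of hm hD.eh hPF hF (uu := uuF m w) (by simp [uuF]) (by simpa [uuF] using hw) hg.1
    (fun i => (hgef i).1) (fun i => (hgef i).2) hy ha hτ hθ hs
  subst k1
  refine ⟨1, ?_⟩
  rw [map_one]
  exact ext_frame hD.eh hF.ee hF.ff hF.ef hfin hθ ⟨fun _ _ => rfl, fun _ _ => rfl⟩ (fun i => (k3 i).1)
    fun i => (k3 i).2

end symp

section quad

open QuadraticMap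

variable {F : Type u} [Field F] {V : Type v} [AddCommGroup V] [Module F V]

open MvPolynomial in
/-- Chevalley-Warning for a quadratic form. -/
theorem dvd_quad [Finite F] [CharP F 2] [Finite V] (Q : QuadraticForm F V) (hn : 2 < finrank F V) :
    2 ∣ Nat.card {v : V // Q v = 0} := by
  classical
  have hF : Fact (Nat.Prime 2) := ⟨Nat.prime_two⟩
  have := Fintype.ofFinite F
  have hfin : Module.Finite F V := Module.Finite.of_finite
  obtain ⟨B, hB⟩ := LinearMap.BilinMap.toQuadraticMap_surjective (R := F) (M := V) (N := F) Q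
  let b := Module.finBasis F V
  let f : MvPolynomial (Fin (finrank F V)) F := ∑ i, ∑ j, C (B (b i) (b j)) * (X i * X j)
  have hdeg : f.totalDegree ≤ 2 := by
    refine (totalDegree_finsetSum _ _).trans ?_
    refine Finset.sup_le fun i _ => ?_
    refine (totalDegree_finsetSum _ _).trans ?_
    refine Finset.sup_le fun j _ => ?_
    refine (totalDegree_mul _ _).trans ?_
    rw [totalDegree_C, zero_add]
    refine (totalDegree_mul _ _).trans ?_
    rw [totalDegree_X, totalDegree_X]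
  have hval : ∀ v, eval (b.equivFun v) f = Q v := by
    intro v
    set x := b.equivFun v with hx
    have hv : v = ∑ i, x i • b i := by rw [hx, b.sum_equivFun]
    rw [← hB, LinearMap.BilinMap.toQuadraticMap_apply, hv]
    simp only [f, map_sum, map_mul, eval_C, eval_X, LinearMap.sum_apply, map_smul, LinearMap.smul_apply,
      smul_eq_mul, Finset.mul_sum]
    rw [Finset.sum_comm]
    apply Finset.sum_congr rfl
    intro i _
    apply Finset.sum_congr rfl
    intro j _
    ring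
  have hcard : Nat.card {v : V // Q v = 0} = Nat.card {x : Fin (finrank F V) → F // eval x f = 0} := by
    refine Nat.card_congr (b.equivFun.toEquiv.subtypeEquiv fun v => ?_)
    rw [← hval]
    rfl
  rw [hcard, Nat.card_eq_fintype_card]
  apply char_dvd_card_solutions 2
  rw [Fintype.card_fin]
  omega

theorem quad_add (Q : QuadraticForm F V) (x y : V) : Q (x + y) = Q x + Q y + polar Q x y := by
  rw [polar]
  ring

theorem quad_smul (Q : QuadraticForm F V) (x y : V) (a : F) :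
    Q (x + a • y) = Q x + a * a * Q y + a * polar Q x y := by
  rw [quad_add, QuadraticMap.map_smul, polar_smul_right, smul_eq_mul, smul_eq_mul]

variable {ι : Type} [Fintype ι] [DecidableEq ι]

theorem quad_DF [Finite F] [CharP F 2] (Q : QuadraticForm F (ι → F)) (hQ : (polarBilin Q).Nondegenerate) :
    DF (F := F) 2 (polar Q) Q := by
  have h2 : (2 : F) = 0 := CharTwo.two_eq_zero
  refine ⟨Cfsg.Agent.H126.SepOrth.polar_EH Q hQ, fun v => ?_, QuadraticMap.map_zero Q, fun e v he hv x => ?_,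
    fun e v he hv => ⟨Q v, ?_⟩, fun U hU => dvd_quad (Q.comp U.subtype) hU⟩
  · rw [ClassicalGeometry.Reflection.polar_self', h2, zero_mul]
  · rw [quad_smul, he, hv]
    ring
  · rw [quad_smul, he, polar_comm, hv]
    linear_combination Q v * h2

theorem quad_tr [CharP F 2] (Q : QuadraticForm F V) (e f : V) (he : Q e = 0) (hf : Q f = 0) (hef : polar Q e f = 1)
    (u : Fˣ) (x : V) : Q (x + (((u⁻¹ : Fˣ) : F) * polar Q x (e + (u : F) • f)) • (e + (u : F) • f)) = Q x := by
  have h2 : (2 : F) = 0 := CharTwo.two_eq_zero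
  rw [quad_smul, quad_smul, he, hf, hef]
  have hu : ((u⁻¹ : Fˣ) : F) * u = 1 := u.inv_mul
  linear_combination (((u⁻¹ : Fˣ) : F) * polar Q x (e + (u : F) • f) ^ 2) * h2 +
    (((u⁻¹ : Fˣ) : F) * polar Q x (e + (u : F) • f) ^ 2) * hu

end quad

section compl

open QuadraticMap

variable {F : Type u} [Field F] {V : Type v} [AddCommGroup V] [Module F V] {β : V → V → F}

/-- The functionals of a frame. -/
def ffl (h : EH (1 : F ≃+* F) 1 β) {n : ℕ} (e f : Fin n → V) : V →ₗ[F] (Fin n ⊕ Fin n → F) :=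
  LinearMap.pi (Sum.elim (fun i => h.fl (e i)) fun i => h.fl (f i))

/-- The orthogonal complement of a frame. -/
def WW (h : EH (1 : F ≃+* F) 1 β) {n : ℕ} (e f : Fin n → V) : Submodule F V := LinearMap.ker (ffl h e f)

theorem mem_WW (h : EH (1 : F ≃+* F) 1 β) {n : ℕ} {e f : Fin n → V} {v : V} :
    v ∈ WW h e f ↔ (∀ i, β v (e i) = 0) ∧ ∀ i, β v (f i) = 0 := by
  rw [WW, LinearMap.mem_ker, funext_iff]
  constructor
  · intro h1
    exact ⟨fun i => h1 (Sum.inl i), fun i => h1 (Sum.inr i)⟩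
  · rintro ⟨h1, h2⟩ (i | i)
    · exact h1 i
    · exact h2 i

theorem finrank_WW [Module.Finite F V] (h : EH (1 : F ≃+* F) 1 β) {n : ℕ} (e f : Fin n → V)
    (hn : 2 * n < finrank F V) : 0 < finrank F (WW h e f) := by
  have h1 := LinearMap.finrank_range_add_finrank_ker (ffl h e f)
  have h2 := Submodule.finrank_le (LinearMap.range (ffl h e f))
  rw [finrank_fintype_fun_eq_card, Fintype.card_sum, Fintype.card_fin] at h2
  change 0 < finrank F (LinearMap.ker (ffl h e f))
  omega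

theorem partner_WW (h : EH (1 : F ≃+* F) 1 β) {n : ℕ} {e f : Fin n → V} (hee : ∀ i j, β (e i) (e j) = 0)
    (hff : ∀ i j, β (f i) (f j) = 0) (hef : ∀ i j, β (e i) (f j) = if i = j then 1 else 0) {w : V}
    (hw : w ∈ WW h e f) (hw0 : w ≠ 0) : ∃ w' ∈ WW h e f, β w w' = 1 := by
  have hfe : ∀ i j, β (f i) (e j) = if i = j then 1 else 0 := by
    intro i j
    rw [EH.comm' h, hef]
    simp only [eq_comm]
  obtain ⟨hw1, hw2⟩ := (mem_WW h).1 hw
  obtain ⟨z, hz⟩ : ∃ z, β w z ≠ 0 := by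
    by_contra hcon
    push Not at hcon
    exact hw0 (h.nondeg w hcon)
  have hsub : ∀ u v w, β u (v - w) = β u v - β u w := by
    intro u v w
    rw [EH.comm' h, h.subl, EH.comm' h v, EH.comm' h w]
  let z' := z - ∑ i, β z (f i) • e i - ∑ i, β z (e i) • f i
  have h1 : β w z' = β w z := by
    change β w (z - ∑ i, β z (f i) • e i - ∑ i, β z (e i) • f i) = _
    rw [hsub, hsub, EH_sumr h, EH_sumr h]
    simp [hw1, hw2]
  have h2 : z' ∈ WW h e f := by
    rw [mem_WW]
    constructor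
    · intro j
      change β (z - ∑ i, β z (f i) • e i - ∑ i, β z (e i) • f i) (e j) = 0
      rw [h.subl, h.subl, EH_suml h, EH_suml h]
      simp [hee, hfe]
    · intro j
      change β (z - ∑ i, β z (f i) • e i - ∑ i, β z (e i) • f i) (f j) = 0
      rw [h.subl, h.subl, EH_suml h, EH_suml h]
      simp [hff, hef]
  refine ⟨(β w z')⁻¹ • z', Submodule.smul_mem _ _ h2, ?_⟩
  rw [h.smulr, RingAut.one_apply, h1]
  exact inv_mul_cancel₀ hz

/-- A nonsingular vector in the complement. -/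
theorem nonsing_WW [Module.Finite F V] (Q : QuadraticForm F V) (h : EH (1 : F ≃+* F) 1 (polar Q)) {n : ℕ}
    {e f : Fin n → V} (hee : ∀ i j, polar Q (e i) (e j) = 0)
    (hff : ∀ i j, polar Q (f i) (f j) = 0) (hef : ∀ i j, polar Q (e i) (f j) = if i = j then 1 else 0)
    (hn : 2 * n < finrank F V) : ∃ w ∈ WW h e f, Q w ≠ 0 := by
  have h1 := finrank_WW h e f hn
  have : Nontrivial (WW h e f) := Module.nontrivial_of_finrank_pos h1
  obtain ⟨w, hw0⟩ := exists_ne (0 : WW h e f)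
  obtain ⟨w', hw', hww⟩ := partner_WW h hee hff hef w.2 (fun e => hw0 (Subtype.ext e))
  by_contra hcon
  push Not at hcon
  have h2 := hcon w w.2
  have h3 := hcon w' hw'
  have h4 := hcon (w + w') (Submodule.add_mem _ w.2 hw')
  rw [quad_add, h2, h3, hww] at h4
  simp at h4

/-- **Two elements.** -/
theorem two_of [Finite F] [CharP F 2] [Finite V] (Q : QuadraticForm F V) (h : EH (1 : F ≃+* F) 1 (polar Q)) {n : ℕ}
    {e f : Fin n → V} (hee : ∀ i j, polar Q (e i) (e j) = 0)
    (hff : ∀ i j, polar Q (f i) (f j) = 0) (hef : ∀ i j, polar Q (e i) (f j) = if i = j then 1 else 0)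
    (hn : finrank F V = 2 * (n + 1)) {Γ : Subgroup (Equiv.Perm V)} (hΓ : IsPGroup 2 Γ) {y y' : Equiv.Perm V}
    (hy : y ∈ Γ) (hy' : y' ∈ Γ) (hi : y ∈ IsoG F (polar Q) Q) (hi' : y' ∈ IsoG F (polar Q) Q)
    (hye : ∀ i, y (e i) = e i ∧ y (f i) = f i) (hye' : ∀ i, y' (e i) = e i ∧ y' (f i) = f i) (h1 : y ≠ 1)
    (h1' : y' ≠ 1) : y = y' := by
  have hfV : Module.Finite F V := Module.Finite.of_finite
  have hF2 : Fact (Nat.Prime 2) := ⟨Nat.prime_two⟩
  have h2 : (2 : F) = 0 := CharTwo.two_eq_zero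
  have halt : ∀ v, polar Q v v = 0 := fun v => by
    rw [polar_self, two_nsmul]
    linear_combination Q v * h2
  let L : Subgroup (Equiv.Perm V) :=
    { carrier := {y | y ∈ Γ ∧ y ∈ IsoG F (polar Q) Q ∧ ∀ i, y (e i) = e i ∧ y (f i) = f i}
      mul_mem' := by
        rintro a b ⟨a1, a2, a3⟩ ⟨b1, b2, b3⟩
        refine ⟨mul_mem a1 b1, mul_mem a2 b2, fun i => ⟨?_, ?_⟩⟩
        · rw [Equiv.Perm.mul_apply, (b3 i).1, (a3 i).1]
        · rw [Equiv.Perm.mul_apply, (b3 i).2, (a3 i).2]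
      one_mem' := ⟨one_mem _, one_mem _, fun i => ⟨rfl, rfl⟩⟩
      inv_mem' := by
        rintro a ⟨a1, a2, a3⟩
        refine ⟨inv_mem a1, inv_mem a2, fun i => ⟨?_, ?_⟩⟩
        · apply a.injective
          rw [perm_apply_inv, (a3 i).1]
        · apply a.injective
          rw [perm_apply_inv, (a3 i).2] }
  have hLΓ : L ≤ Γ := fun y hy => hy.1
  have hLp : IsPGroup 2 L := hΓ.to_le hLΓ
  -- a common fixed vector
  obtain ⟨w, hwW, hw0, hwfix⟩ : ∃ w ∈ WW h e f, w ≠ 0 ∧ ∀ y ∈ L, y w = w := by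
    have hLW : ∀ y ∈ L, ∀ v ∈ WW h e f, y v ∈ WW h e f := by
      rintro y ⟨-, ⟨-, k2, -⟩, k3⟩ v hv
      obtain ⟨v1, v2⟩ := (mem_WW h).1 hv
      rw [mem_WW]
      refine ⟨fun i => ?_, fun i => ?_⟩
      · have := k2 v (e i)
        rwa [(k3 i).1, v1] at this
      · have := k2 v (f i)
        rwa [(k3 i).2, v2] at this
    let act : MulAction L (WW h e f) :=
      { smul := fun y v => ⟨y.1 v.1, hLW y y.2 _ v.2⟩
        one_smul := fun v => rfl
        mul_smul := fun y z v => rfl }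
    have hcard : 2 ∣ Nat.card (WW h e f) := by
      rw [Module.natCard_eq_pow_finrank (K := F)]
      exact dvd_pow (dvd_card (p := 2)) (finrank_WW h e f (by omega)).ne'
    obtain ⟨w, hw, hw0⟩ := hLp.exists_fixed_point_of_prime_dvd_card_of_fixed_point (WW h e f) hcard
      (a := 0) (fun y => Subtype.ext (semi_zero y.2.2.1.1))
    exact ⟨w, w.2, fun h => hw0 (Subtype.ext h.symm), fun y hy => congrArg Subtype.val (hw ⟨y, hy⟩)⟩
  obtain ⟨w', hwW', hww⟩ := partner_WW h hee hff hef hwW hw0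
  obtain ⟨w1, w2⟩ := (mem_WW h).1 hwW
  obtain ⟨w1', w2'⟩ := (mem_WW h).1 hwW'
  have hcm : ∀ u v, polar Q u v = polar Q v u := fun u v => polar_comm _ _ _
  -- the symplectic basis
  let e2 : Fin (n + 1) → V := Fin.cons w e
  let f2 : Fin (n + 1) → V := Fin.cons w' f
  have hee2 : ∀ i j, polar Q (e2 i) (e2 j) = 0 := by
    intro i j
    refine Fin.cases ?_ (fun i => ?_) i <;> refine Fin.cases ?_ (fun j => ?_) j
    · exact halt _
    · exact w1 j
    · rw [hcm]; exact w1 i
    · exact hee i j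
  have hff2 : ∀ i j, polar Q (f2 i) (f2 j) = 0 := by
    intro i j
    refine Fin.cases ?_ (fun i => ?_) i <;> refine Fin.cases ?_ (fun j => ?_) j
    · exact halt _
    · exact w2' j
    · rw [hcm]; exact w2' i
    · exact hff i j
  have hef2 : ∀ i j, polar Q (e2 i) (f2 j) = if i = j then 1 else 0 := by
    intro i j
    refine Fin.cases ?_ (fun i => ?_) i <;> refine Fin.cases ?_ (fun j => ?_) j
    · rw [if_pos rfl]; exact hww
    · rw [if_neg (Fin.succ_ne_zero j).symm]; exact w2 j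
    · rw [if_neg (Fin.succ_ne_zero i), hcm]; exact w1' i
    · simp only [Fin.succ_inj]; exact hef i j
  -- the action on `w'`
  have key : ∀ y ∈ L, y ≠ 1 → ∃ t : F, y w' = w' + t • w ∧ t * Q w = 1 := by
    rintro y hy hy1
    have hyw := hwfix y hy
    obtain ⟨-, ⟨k1, k2, k3⟩, k4⟩ := hy
    set t := polar Q (y w') w' with ht
    have hz : y w' - w' - t • w = 0 := by
      apply zero_frame h hee2 hff2 hef2 hn
      · intro i
        refine Fin.cases ?_ (fun i => ?_) i
        · change polar Q (y w' - w' - t • w) w = 0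
          have := k2 w' w
          rw [hyw] at this
          rw [h.subl, h.subl, h.smull, halt, this, hcm w' w, hww]
          ring
        · change polar Q (y w' - w' - t • w) (e i) = 0
          have := k2 w' (e i)
          rw [(k4 i).1] at this
          rw [h.subl, h.subl, h.smull, this, w1' i, w1 i]
          ring
      · intro i
        refine Fin.cases ?_ (fun i => ?_) i
        · change polar Q (y w' - w' - t • w) w' = 0
          rw [h.subl, h.subl, h.smull, halt, hww, ← ht]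
          ring
        · change polar Q (y w' - w' - t • w) (f i) = 0
          have := k2 w' (f i)
          rw [(k4 i).2] at this
          rw [h.subl, h.subl, h.smull, this, w2' i, w2 i]
          ring
    have hyw' : y w' = w' + t • w := by
      rw [sub_sub, sub_eq_zero] at hz
      exact hz
    refine ⟨t, hyw', ?_⟩
    have h5 := k3 w'
    rw [hyw', quad_smul, hcm w' w, hww] at h5
    have h6 : t * (t * Q w - 1) = 0 := by linear_combination h5 - t * h2
    rcases mul_eq_zero.1 h6 with h7 | h7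
    · exfalso
      apply hy1
      apply ext_frame h hee2 hff2 hef2 hn k1 ⟨fun _ _ => rfl, fun _ _ => rfl⟩
      · intro i
        refine Fin.cases ?_ (fun i => ?_) i
        · exact hyw
        · exact (k4 i).1
      · intro i
        refine Fin.cases ?_ (fun i => ?_) i
        · change y w' = w'
          rw [hyw', h7, zero_smul, add_zero]
        · exact (k4 i).2
    · exact sub_eq_zero.1 h7
  have hyL : y ∈ L := ⟨hy, hi, hye⟩
  have hyL' : y' ∈ L := ⟨hy', hi', hye'⟩
  obtain ⟨t, ht1, ht2⟩ := key y hyL h1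
  obtain ⟨t', ht1', ht2'⟩ := key y' hyL' h1'
  have hQw : Q w ≠ 0 := fun h0 => by rw [h0, mul_zero] at ht2; exact zero_ne_one ht2
  have htt : t = t' := mul_right_cancel₀ hQw (ht2.trans ht2'.symm)
  apply ext_frame h hee2 hff2 hef2 hn hi.1 hi'.1
  · intro i
    refine Fin.cases ?_ (fun i => ?_) i
    · exact (hwfix y hyL).trans (hwfix y' hyL').symm
    · exact (hye i).1.trans (hye' i).1.symm
  · intro i
    refine Fin.cases ?_ (fun i => ?_) i
    · change y w' = y' w'
      rw [ht1, ht1', htt]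
    · exact (hye i).2.trans (hye' i).2.symm

end compl

section orth

open QuadraticMap Matrix Cfsg.Agent.ClassicalGeometry.Reflection

variable {ι : Type} [Fintype ι] [DecidableEq ι] {F : Type u} [Field F]

/-- **Orthogonal separation in characteristic two.** -/
theorem sepO_two [Finite F] [CharP F 2] (Q : QuadraticForm F (ι → F)) (hQ : (polarBilin Q).Nondegenerate) {N : ℕ}
    (hN : 3 ≤ N) (hι : Fintype.card ι = 2 * N) {Γ : Subgroup (Equiv.Perm (ι → F))} (hΓ : IsPGroup 2 Γ)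
    (hsim : ∀ y ∈ Γ, SemiO F Q y) :
    ∃ g, IsOmegaMap F Q g ∧ ∀ y ∈ Γ, ∀ y' ∈ Γ, (∃ a : Fˣ, scal F _ a * (g * y * g⁻¹) ∈ Γ) →
      (∃ a : Fˣ, scal F _ a * (g * y' * g⁻¹) ∈ Γ) → y ≠ 1 → y' ≠ 1 → y = y' := by
  classical
  have h2 : (2 : F) = 0 := CharTwo.two_eq_zero
  have hPF : PSF 2 F (polar Q) Γ := by
    refine ⟨hΓ, fun y hy => ?_⟩
    obtain ⟨θ, c, hc, hθ, hQy⟩ := hsim y hy
    refine ⟨θ, c, hc, hθ, fun u v => ?_⟩
    rw [polar, ← hθ.1, hQy, hQy, hQy, polar, map_sub, map_sub]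
    ring
  have hP : PQ (polar Q) Q Γ := ⟨hPF, fun y hy v hv => by
    obtain ⟨θ, c, hc, hθ, hQy⟩ := hsim y hy
    rw [hQy, hv, map_zero, mul_zero]⟩
  have hD := quad_DF Q hQ
  obtain ⟨n, rfl⟩ : ∃ n, N = n + 1 := ⟨N - 1, by omega⟩
  have hfin : finrank F (ι → F) = 2 * (n + 1) := by rw [finrank_fintype_fun_eq_card, hι]
  obtain ⟨e, f, hF⟩ := exists_frame n hD (by omega) hP
  obtain ⟨w, hw⟩ := exists_gen (F := F)
  obtain ⟨g0, hg0, hg0ef⟩ := exists_g hD.eh hD.alt hF (quad_tr Q) (uuF n w)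
  obtain ⟨s, hs⟩ := Cfsg.Agent.H126.SepOrth.exists_iso Q hg0.1 hg0.2.2
  -- an element of `Ω`
  obtain ⟨g, hg, hge, hgf, hgO⟩ : ∃ g : Equiv.Perm (ι → F), Semi F g (1 : F ≃+* F) ∧
      (∀ i, g (e i) = (uuF n w i : F) • f i) ∧ (∀ i, g (f i) = ((uuF n w i)⁻¹ : Fˣ) • e i) ∧
      IsOmegaMap F Q g := by
    by_cases hsO : s ∈ commutator (Cfsg.isometryGroup F (⇑Q))
    · exact ⟨g0, hg0.1, fun i => (hg0ef i).1, fun i => (hg0ef i).2, ⟨s, hsO⟩, hs⟩
    · obtain ⟨z, hz, hQz⟩ := nonsing_WW Q hD.eh hF.ee hF.ff hF.ef (by omega)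
      obtain ⟨z1, z2⟩ := (mem_WW hD.eh).1 hz
      have hne : Nonempty ι := Fintype.card_pos_iff.1 (by omega)
      have hidx := Cfsg.Agent.ClassicalGeometry.OrthDickson.index_commutator_two Q h2 hQ (Or.inr (by omega))
      have hr := Cfsg.Agent.ClassicalGeometry.OrthDickson.refl_notMem_commutator Q hQ (Or.inr (by omega)) z hQz
      have hmem : s * reflIso Q z hQz ∈ commutator (Cfsg.isometryGroup F (⇑Q)) := by
        rw [Subgroup.mul_mem_iff_of_index_two hidx]
        exact ⟨fun h => absurd h hsO, fun h => absurd h hr⟩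
      have hrr := rr_mem (q := Q) hD.eh hD.alt (Q z)⁻¹ z (by
        intro x
        rw [quad_smul]
        have h3 : (Q z)⁻¹ * Q z = 1 := inv_mul_cancel₀ hQz
        linear_combination ((Q z)⁻¹ * polar Q x z ^ 2) * h2 + ((Q z)⁻¹ * polar Q x z ^ 2) * h3)
      have hval : ∀ x, rr hD.eh hD.alt (Q z)⁻¹ z x = Cfsg.reflectionMatrix (⇑Q) z *ᵥ x := by
        intro x
        rw [rr_apply, reflectionMatrix_mulVec, polar_comm (⇑Q) z x, sub_eq_add_neg, ← neg_smul, CharTwo.neg_eq]
      refine ⟨g0 * rr hD.eh hD.alt (Q z)⁻¹ z, ?_, fun i => ?_, fun i => ?_, ⟨s * reflIso Q z hQz, hmem⟩, fun x => ?_⟩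
      · have := semi_mul hg0.1 hrr.1
        rwa [one_mul] at this
      · rw [Equiv.Perm.mul_apply, rr_fix hD.eh hD.alt _ (by rw [hD.comm]; exact z1 i), (hg0ef i).1]
      · rw [Equiv.Perm.mul_apply, rr_fix hD.eh hD.alt _ (by rw [hD.comm]; exact z2 i), (hg0ef i).2]
      · rw [Equiv.Perm.mul_apply, hs, hval]
        change _ = ((s * reflIso Q z hQz : Cfsg.isometryGroup F ⇑Q) : Matrix.GeneralLinearGroup ι F).1 *ᵥ x
        rw [Subgroup.coe_mul, Units.val_mul, coe_reflIso, Matrix.mulVec_mulVec]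
  refine ⟨g, hgO, fun y hy y' hy' ⟨a, ha⟩ ⟨a', ha'⟩ h1 h1' => ?_⟩
  have key : ∀ y ∈ Γ, ∀ a : Fˣ, scal F (ι → F) a * (g * y * g⁻¹) ∈ Γ →
      y ∈ IsoG F (polar Q) Q ∧ ∀ i, y (e i) = e i ∧ y (f i) = f i := by
    intro y hy a ha
    obtain ⟨θ, c, hc, hθ, hQy⟩ := hsim y hy
    have hpol : ∀ u v, polar Q (y u) (y v) = c * θ (polar Q u v) := by
      intro u v
      rw [polar, ← hθ.1, hQy, hQy, hQy, polar, map_sub, map_sub]
      ring
    obtain ⟨k1, k2, k3⟩ := linear_of (n := n) (by omega) hD.eh hPF hF (uu := uuF n w) (by simp [uuF])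
      (by simpa [uuF] using hw) hg hge hgf hy ha hc hθ hpol
    subst k1
    subst k2
    refine ⟨⟨hθ, fun u v => ?_, fun v => ?_⟩, k3⟩
    · rw [hpol, one_mul, RingAut.one_apply]
    · rw [hQy, one_mul, RingAut.one_apply]
  obtain ⟨k1, k2⟩ := key y hy a ha
  obtain ⟨k1', k2'⟩ := key y' hy' a' ha'
  exact two_of Q hD.eh hF.ee hF.ff hF.ef hfin hΓ hy hy' k1 k1' k2 k2' h1 h1'

end orth

end Cfsg.Agent.H539.B3
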