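import Cfsg.Agent.H539.B3.Trans
import Cfsg.Agent.H539.B3.FrameMain
import Cfsg.Agent.H513.MeetPSp
import Cfsg.Agent.H152.MeetOmega

/-!
# Rows `Row3 2 T` of S5761: `PSp_{2m}(q)`, `m ≥ 3`, and `PΩ⁺_{2m}(q)`, `m ≥ 4`, `q` even (helper539, task 2823 of helper233)

* `meet_psp_two : Meet 2 (PSp m F)`, `row3_psp_two`;
* `row3_plus_two`.
-/

set_option autoImplicit false
set_option linter.unusedVariables false

namespace Cfsg.Agent.H539.B3

open Cfsg Cfsg.Agent.H903.SylMeet Cfsg.Agent.H903.SylSemi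

section psp

open Cfsg.Agent.ClassicalGeometry.SympAutSemi Cfsg.Agent.ClassicalGeometry.SympGamma
open Cfsg.Agent.ClassicalGeometry Cfsg.Agent.H513.MeetPSp

theorem meet_psp_two {m : ℕ} {F : Type} [Field F] [Fintype F] [CharP F 2] (hm : 3 ≤ m) : Meet 2 (Cfsg.PSp m F) := by
  intro P hP
  have hF2 : Fact (Nat.Prime 2) := ⟨Nat.prime_two⟩
  have hfin : Finite (Cfsg.PSp m F) := by
    unfold Cfsg.PSp
    infer_instance
  have hπ : Function.Surjective (QuotientGroup.mk' (Subgroup.center (Matrix.symplecticGroup (Fin m) F))) :=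
    QuotientGroup.mk'_surjective _
  refine good_of_sep (T := Cfsg.PSp m F) (F := F) (V := Fin m ⊕ Fin m → F)
    (π := QuotientGroup.mk' (Subgroup.center (Matrix.symplecticGroup (Fin m) F))) hπ
    (ρ := rho m F) rho_injective (Y := SemiSp F m) ?_ ?_ ?_ ?_ ?_ ?_ hP ?_ ?_ (X' := IsSpMap F m) ?_
    (sepSp_two (by omega))
  · rw [semiSp_iff]; exact one_mem _
  · intro y y' hy hy'
    rw [semiSp_iff] at hy hy' ⊢
    exact mul_mem hy hy'
  · intro a
    rw [semiSp_iff]
    exact ⟨_, _, mul_ne_zero a.ne_zero a.ne_zero, isSemi_scal (m := m) a⟩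
  · rintro y ⟨θ, τ, -, hθ, -⟩
    exact ⟨θ, hθ⟩
  · intro s
    exact ⟨(isSemi_rho s).1, (isSemi_rho s).2.1⟩
  · intro s
    rw [semiSp_iff]
    exact ⟨_, _, one_ne_zero, isSemi_rho s⟩
  · intro β hβ
    have hB : ∀ α : MulAut (Cfsg.PSp m F), AutPSpCount.Pres α → α ∈ (Psi m F).range := by
      intro α hα
      obtain ⟨g, hg⟩ := SympAutExists.exists_semi (by omega) α hα
      exact ⟨g, hg⟩
    obtain ⟨g, rfl⟩ := hB _ (SympAutOddA.recog (by omega) (Or.inl hm) β)
    exact ⟨g, (semiSp_iff _).2 g.2, ind_Psi g⟩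
  · intro y hy hind
    have hy' := (semiSp_iff y).1 hy
    have h1 : Psi m F ⟨y, hy'⟩ = 1 := Ind.unique hπ rho_injective (ind_Psi ⟨y, hy'⟩) hind
    obtain ⟨a, ha⟩ := exists_scal_of_Psi_eq_one (by omega) _ h1
    refine ⟨a, ?_⟩
    ext1 v
    exact DFunLike.congr_fun ha v
  · rintro g ⟨⟨h1, h2⟩, h3⟩
    exact exists_rho_eq g h1 h2 h3

/-- **The symplectic row in characteristic two.** -/
theorem row3_psp_two {T : Type*} [Group T] [Finite T] [IsSimpleGroup T] (hT : ¬ IsMulCommutative T) {m : ℕ}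
    {F : Type} [Field F] [Fintype F] [CharP F 2] (hm : 3 ≤ m) (e : T ≃* Cfsg.PSp m F) : H233.B3.Row3 2 T := by
  have hF2 : Fact (Nat.Prime 2) := ⟨Nat.prime_two⟩
  exact H233.B3.row3_of_meet hT (Meet.congr e.symm (meet_psp_two hm))

end psp

section plus

open QuadraticMap Cfsg.Agent.H152.MeetOmega Cfsg.Agent.H233.B3
open Cfsg.Agent.LieClassical.OrthCore Cfsg.Agent.LieClassical.OrthTrans Cfsg.Agent.LieClassical.QuadForms
open Cfsg.Agent.AutOrth.Main Cfsg.Agent.H208.Dict Cfsg.Agent.ClassicalGeometry.OrthAut1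
open scoped Matrix

variable {ι : Type} [Fintype ι] [DecidableEq ι] {F : Type*} [Field F]

/-- One 2-group of automorphisms induced by semisimilarities. -/
theorem g3_of_ind [Finite F] [CharP F 2] {Q : QuadraticForm F (ι → F)} (hG : Good Q)
    (hQ : (polarBilin Q).Nondegenerate) {N : ℕ} (hN : 3 ≤ N) (hι : Fintype.card ι = 2 * N)
    [IsSimpleGroup (POmega F ⇑Q)] (hT : ¬ IsMulCommutative (POmega F ⇑Q)) {P : Subgroup (MulAut (POmega F ⇑Q))}
    (hP : IsPGroup 2 P) (hall : ∀ β ∈ P, AutOrth.Main.Ind ⇑Q β) : G3 P := by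
  have hF2 : Fact (Nat.Prime 2) := ⟨Nat.prime_two⟩
  obtain ⟨x, hx⟩ := good2_of_sep (p := 2) (F := F) (proj_surjective ⇑Q) (rho_injective ⇑Q) (Y := SemiO F ⇑Q)
    (semiO_one _) (fun y y' h1 h2 => mem_gam_iff.1 (mul_mem (mem_gam_iff.2 h1) (mem_gam_iff.2 h2)))
    (fun s => mem_gam_iff.1 (rho_mem_gam s)) hP
    (fun β hβ => exists_of_ind hG (hall β hβ)) (fun y hy h1 => unique hG hy h1) (X' := IsOmegaMap F ⇑Q) (by
      rintro g ⟨s, hs⟩
      exact ⟨s, Equiv.ext fun v => (hs v).symm⟩) (fun Γ hΓ hsim => sepO_two Q hQ hN hι hΓ hsim)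
  exact g3_of_two hT hP x (card_DD_le_two hx)

/-- One 2-group of odd index consisting of automorphisms induced by semisimilarities. -/
theorem row3_of_ind [Finite F] [CharP F 2] {Q : QuadraticForm F (ι → F)} (hG : Good Q)
    (hQ : (polarBilin Q).Nondegenerate) {N : ℕ} (hN : 3 ≤ N) (hι : Fintype.card ι = 2 * N)
    [IsSimpleGroup (POmega F ⇑Q)] (hT : ¬ IsMulCommutative (POmega F ⇑Q))
    (Γ : Subgroup (MulAut (POmega F ⇑Q))) (hi : ¬ 2 ∣ Γ.index) (hall : ∀ β ∈ Γ, AutOrth.Main.Ind ⇑Q β) :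
    Row3 2 (POmega F ⇑Q) := by
  have hF2 : Fact (Nat.Prime 2) := ⟨Nat.prime_two⟩
  have hfin : Finite (POmega F ⇑Q) := inferInstance
  have hfin2 : Finite (MulAut (POmega F ⇑Q)) := inferInstance
  let S : Sylow 2 Γ := default
  refine row3_of_index ((S : Subgroup Γ).map Γ.subtype) (S.2.map _) ?_ (g3_of_ind hG hQ hN hι hT (S.2.map _) ?_)
  · rw [Subgroup.index_map_subtype, Nat.prime_two.dvd_mul]
    rintro (h | h)
    · exact S.not_dvd_index h
    · exact hi h
  · rintro _ ⟨β, -, rfl⟩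
    exact hall _ β.2

/-- **The row of the plus type groups in characteristic two.** -/
theorem row3_plus_two {T : Type*} [Group T] [Finite T] [IsSimpleGroup T] (hT : ¬ IsMulCommutative T) {m : ℕ}
    {F : Type} [Field F] [Fintype F] [CharP F 2] (hm : 4 ≤ m) (e : T ≃* POmega F (quadFormPlus m F)) : Row3 2 T := by
  have h5 : 5 ≤ m → ∀ β : MulAut (POmega F (quadFormPlus m F)), AutOrth.Main.Ind (quadFormPlus m F) β :=
    fun h β => all_plus h β
  revert e h5
  rw [← coe_plusForm]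
  intro e h5
  have hG : Good (plusForm m F) := good_plus (by omega)
  have hQ : (polarBilin (plusForm m F)).Nondegenerate := by
    refine ⟨fun x hx => hG.nondeg x hx, fun x hx => hG.nondeg x fun y => ?_⟩
    rw [polar_comm]
    exact hx y
  have hs : IsSimpleGroup (POmega F ⇑(plusForm m F)) := e.symm.isSimpleGroup
  have hT' : ¬ IsMulCommutative (POmega F ⇑(plusForm m F)) := by
    intro h
    apply hT
    exact ⟨⟨fun a b => by
      apply e.injective
      rw [map_mul, map_mul]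
      exact mul_comm' _ _⟩⟩
  have hι : Fintype.card (Fin m ⊕ Fin m) = 2 * m := by rw [Fintype.card_sum, Fintype.card_fin, two_mul]
  refine Row3.congr e.symm ?_
  rcases (by omega : m = 4 ∨ 5 ≤ m) with rfl | h
  · obtain ⟨Γ, hΓ, hind⟩ := Cfsg.Agent.ClassicalGeometry.TrialityFinal.exists_index_three hG
      fun α x hx hx0 => by
        rcases Cfsg.Agent.ClassicalGeometry.OrthAut3.dichotomy hG (by simp) α hx hx0 with h | h
        · exact Or.inl h
        · exact Or.inr h.2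
    refine row3_of_ind hG hQ (by norm_num) hι hT' (Γ.comap (trE hG).toMonoidHom) ?_ fun β hβ => ?_
    · rw [Subgroup.index_comap_of_surjective _ (trE hG).surjective, hind]
      norm_num
    · exact (ind_iff_pt hG (by simp) β).2 ((hΓ _).1 hβ)
  · refine row3_of_ind hG hQ (by omega) hι hT' ⊤ (by rw [Subgroup.index_top]; norm_num) fun β _ => h5 h β

end plus

end Cfsg.Agent.H539.B3
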