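import Cfsg.Agent.H126.SepInd

/-!
# Adapted frames of a 2-group of semisimilarities in characteristic two (helper539, task 2823 of helper233, S5761)

`DF δ β q` : an alternating nondegenerate form `β` with a function `q` (a quadratic form with polar form `β`, `δ = 2`, or
`q = 0`, `δ = 0`).  `exists_frame` : hyperbolic pairs `e i, f i` (`i < n`, `2 n + δ ≤ dim V`) with
`y (e i) - e i ∈ ⟨e j | j < i⟩` for all `y ∈ Γ`.
-/

set_option autoImplicit false
set_option linter.unusedSectionVars false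
set_option linter.unusedVariables false

namespace Cfsg.Agent.H539.B3

open Module Cfsg.Agent.H903.SylSemi Cfsg.Agent.H126.SepStep Cfsg.Agent.H126.SepMain Cfsg.Agent.H126.SepForm
  Cfsg.Agent.H126.SepInd

universe u v

/-- Form data in characteristic two. -/
structure DF {F : Type u} [Field F] (δ : ℕ) {V : Type v} [AddCommGroup V] [Module F V] (β : V → V → F)
    (q : V → F) : Prop where
  eh : EH (1 : F ≃+* F) 1 β
  alt : ∀ v, β v v = 0
  qz : q 0 = 0
  add0 : ∀ e v, q e = 0 → β v e = 0 → ∀ x : F, q (v + x • e) = q v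
  part : ∀ e v, q e = 0 → β e v = 1 → ∃ x : F, q (v + x • e) = 0
  cnt : ∀ U : Submodule F V, δ < finrank F U → 2 ∣ Nat.card {v : U // q (v : V) = 0}

/-- `Γ` is a 2-group of semisimilarities preserving the zeros of `q`. -/
structure PQ {F : Type u} [Field F] {V : Type v} [AddCommGroup V] [Module F V] (β : V → V → F) (q : V → F)
    (Γ : Subgroup (Equiv.Perm V)) : Prop where
  psf : PSF 2 F β Γ
  qq : ∀ y ∈ Γ, ∀ v, q v = 0 → q (y v) = 0

/-- Adapted frames. -/
structure Fr {F : Type u} [Field F] {V : Type v} [AddCommGroup V] [Module F V] (β : V → V → F) (q : V → F)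
    (Γ : Subgroup (Equiv.Perm V)) {n : ℕ} (e f : Fin n → V) : Prop where
  ee : ∀ i j, β (e i) (e j) = 0
  ff : ∀ i j, β (f i) (f j) = 0
  ef : ∀ i j, β (e i) (f j) = if i = j then 1 else 0
  qe : ∀ i, q (e i) = 0
  qf : ∀ i, q (f i) = 0
  tri : ∀ y ∈ Γ, ∀ i, y (e i) - e i ∈ Submodule.span F (e '' {j | j < i})

variable {F : Type u} [Field F] {V : Type v} [AddCommGroup V] [Module F V] {β : V → V → F} {q : V → F} {δ : ℕ}

theorem DF.comm (h : DF δ β q) (u v : V) : β u v = β v u := by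
  have := h.eh.herm v u
  rwa [one_mul] at this

theorem DF.fixed [Finite V] (h : DF δ β q) (hn : δ < finrank F V) {Γ : Subgroup (Equiv.Perm V)} (hP : PQ β q Γ) :
    ∃ e : V, e ≠ 0 ∧ q e = 0 ∧ ∀ y ∈ Γ, y e = e := by
  have hF : Fact (Nat.Prime 2) := ⟨Nat.prime_two⟩
  let act : MulAction Γ {v : V // q v = 0} :=
    { smul := fun y v => ⟨y.1 v.1, hP.qq y y.2 _ v.2⟩
      one_smul := fun v => rfl
      mul_smul := fun y z v => rfl }
  have hcard : 2 ∣ Nat.card {v : V // q v = 0} := by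
    have h1 := h.cnt ⊤ (by rwa [finrank_top])
    have h2 : Nat.card {v : (⊤ : Submodule F V) // q (v : V) = 0} = Nat.card {v : V // q v = 0} :=
      Nat.card_congr ((Submodule.topEquiv (R := F) (M := V)).toEquiv.subtypeEquiv fun v => Iff.rfl)
    rwa [h2] at h1
  obtain ⟨e, he, he0⟩ := hP.psf.grp.exists_fixed_point_of_prime_dvd_card_of_fixed_point {v : V // q v = 0} hcard
    (a := ⟨0, h.qz⟩) (fun y => Subtype.ext (by
      obtain ⟨θ, τ, -, hθ, -⟩ := hP.psf.sim y y.2
      exact semi_zero hθ))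
  exact ⟨e, fun h => he0 (Subtype.ext h.symm), e.2, fun y hy => congrArg Subtype.val (he ⟨y, hy⟩)⟩

theorem DF.partner (h : DF δ β q) {e : V} (he : e ≠ 0) (hq : q e = 0) : ∃ f, HP β e f ∧ q f = 0 := by
  obtain ⟨w, hw⟩ : ∃ w, β e w ≠ 0 := by
    by_contra hcon
    push Not at hcon
    exact he (h.eh.nondeg e hcon)
  have h1 : β e ((β e w)⁻¹ • w) = 1 := by
    rw [h.eh.smulr]
    exact inv_mul_cancel₀ hw
  obtain ⟨x, hx⟩ := h.part e _ hq h1
  refine ⟨_, ⟨h.alt _, h.alt _, ?_⟩, hx⟩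
  rw [h.eh.addr, h1, h.eh.smulr, h.alt, mul_zero, add_zero]

/-- The data on the complement of a hyperbolic pair. -/
theorem DF.res (h : DF δ β q) {e f : V} (k : HP β e f) : DF δ (resF β (CC h.eh e f)) (fun c => q (c : V)) := by
  refine ⟨h.eh.res k, fun v => h.alt _, h.qz, fun e v he hv x => h.add0 _ _ he hv x, fun e v he hv => h.part _ _ he hv,
    fun U hU => ?_⟩
  have h1 := h.cnt (U.map (CC h.eh e f).subtype) (by rwa [Submodule.finrank_map_subtype_eq])
  have h2 : Nat.card {v : U // q ((v : ↥(CC h.eh e f)) : V) = 0} =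
      Nat.card {v : ↥(U.map (CC h.eh e f).subtype) // q (v : V) = 0} :=
    Nat.card_congr (((CC h.eh e f).equivSubtypeMap U).toEquiv.subtypeEquiv fun v => Iff.rfl)
  rwa [h2]

/-- Semisimilarities on the complement. -/
theorem bar_spec (h : DF δ β q) {e f : V} (k : HP β e f) {Γ : Subgroup (Equiv.Perm V)} (hP : PSF 2 F β Γ)
    (hfix : ∀ y ∈ Γ, y e = e) {y : Equiv.Perm V} (hy : y ∈ Γ) (c : ↥(CC h.eh e f)) :
    ∃ x : F, y c = ((barF (tr (dec h.eh k) y) c : ↥(CC h.eh e f)) : V) + x • e := by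
  have hS := St_dec h.eh k hP hfix
  refine ⟨(tr (dec h.eh k) y (c, (0, 0))).2.1, ?_⟩
  have h4 := hS.hyp (tr (dec h.eh k) y) (mem_trG.2 hy) c 0
  have h5 : tr (dec h.eh k) y (c, (0, 0)) =
      (barF (tr (dec h.eh k) y) c, ((tr (dec h.eh k) y (c, (0, 0))).2.1, 0)) :=
    Prod.ext rfl (Prod.ext rfl h4)
  have h6 : (dec h.eh k).symm (tr (dec h.eh k) y (c, (0, 0))) = y c := by
    rw [tr_apply, LinearEquiv.symm_apply_apply, dec_symm_apply]
    simp
  rw [← h6, h5, dec_symm_apply]
  simp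

theorem bar_PQ (h : DF δ β q) {e f : V} (k : HP β e f) (he : q e = 0) {Γ : Subgroup (Equiv.Perm V)} (hP : PQ β q Γ)
    (hfix : ∀ y ∈ Γ, y e = e) :
    PQ (resF β (CC h.eh e f)) (fun c => q (c : V)) (bar (St_dec h.eh k hP.psf hfix) (trG_PS hP.psf.ps)) := by
  refine ⟨bar_PSF h.eh k hP.psf hfix, ?_⟩
  rintro _ ⟨⟨_, y, hy, rfl⟩, rfl⟩ c hc
  obtain ⟨x, hx⟩ := bar_spec h k hP.psf hfix hy c
  have h1 := hP.qq y hy _ hc
  rw [hx, h.add0 e _ he ((mem_CC h.eh).1 (barF (tr (dec h.eh k) y) c).2).2] at h1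
  exact h1

theorem finrank_pos_of {n : ℕ} [Finite V] (hn : δ < finrank F V) : 0 < finrank F V := by omega

/-- **Existence of adapted frames.** -/
theorem exists_frame (n : ℕ) : ∀ {V : Type v} [AddCommGroup V] [Module F V] [Finite V] {β : V → V → F} {q : V → F},
    DF δ β q → 2 * n + δ ≤ finrank F V → ∀ {Γ : Subgroup (Equiv.Perm V)}, PQ β q Γ →
    ∃ e f : Fin n → V, Fr β q Γ e f := by
  induction n with
  | zero =>
    intro V _ _ _ β q h hn Γ hP
    exact ⟨Fin.elim0, Fin.elim0, ⟨fun i => i.elim0, fun i => i.elim0, fun i => i.elim0, fun i => i.elim0,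
      fun i => i.elim0, fun _ _ i => i.elim0⟩⟩
  | succ n ih =>
    intro V _ _ _ β q h hn Γ hP
    obtain ⟨e0, he0, hq0, hfix⟩ := h.fixed (by omega) hP
    obtain ⟨f0, k, hf0⟩ := h.partner he0 hq0
    have : Module.Finite F V := Module.Finite.of_finite
    have hfr := finrank_CC h.eh k
    obtain ⟨e, f, hef⟩ := ih (h.res k) (by omega) (bar_PQ h k hq0 hP hfix)
    have me : ∀ i, β (e i) f0 = 0 ∧ β (e i) e0 = 0 := fun i => (mem_CC h.eh).1 (e i).2
    have mf : ∀ i, β (f i) f0 = 0 ∧ β (f i) e0 = 0 := fun i => (mem_CC h.eh).1 (f i).2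
    refine ⟨Fin.cons e0 fun i => (e i : V), Fin.cons f0 fun i => (f i : V), ⟨?_, ?_, ?_, ?_, ?_, ?_⟩⟩
    · intro i j
      refine Fin.cases ?_ (fun i => ?_) i <;> refine Fin.cases ?_ (fun j => ?_) j
      · exact h.alt _
      · rw [Fin.cons_zero, Fin.cons_succ, h.comm]; exact (me j).2
      · rw [Fin.cons_zero, Fin.cons_succ]; exact (me i).2
      · rw [Fin.cons_succ, Fin.cons_succ]; exact hef.ee i j
    · intro i j
      refine Fin.cases ?_ (fun i => ?_) i <;> refine Fin.cases ?_ (fun j => ?_) j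
      · exact h.alt _
      · rw [Fin.cons_zero, Fin.cons_succ, h.comm]; exact (mf j).1
      · rw [Fin.cons_zero, Fin.cons_succ]; exact (mf i).1
      · rw [Fin.cons_succ, Fin.cons_succ]; exact hef.ff i j
    · intro i j
      refine Fin.cases ?_ (fun i => ?_) i <;> refine Fin.cases ?_ (fun j => ?_) j
      · rw [Fin.cons_zero, Fin.cons_zero, if_pos rfl]; exact k.ef
      · rw [Fin.cons_zero, Fin.cons_succ, if_neg (Fin.succ_ne_zero j).symm, h.comm]; exact (mf j).2
      · rw [Fin.cons_zero, Fin.cons_succ, if_neg (Fin.succ_ne_zero i)]; exact (me i).1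
      · rw [Fin.cons_succ, Fin.cons_succ]
        have := hef.ef i j
        simp only [Fin.succ_inj]
        exact this
    · intro i
      refine Fin.cases ?_ (fun i => ?_) i
      · exact hq0
      · exact hef.qe i
    · intro i
      refine Fin.cases ?_ (fun i => ?_) i
      · exact hf0
      · exact hef.qf i
    · intro y hy i
      refine Fin.cases ?_ (fun i => ?_) i
      · rw [Fin.cons_zero, hfix y hy, sub_self]; exact Submodule.zero_mem _
      · rw [Fin.cons_succ]
        obtain ⟨x, hx⟩ := bar_spec h k hP.psf hfix hy (e i)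
        have h1 := hef.tri _ ⟨⟨_, y, hy, rfl⟩, rfl⟩ i
        have h2 := Submodule.mem_map_of_mem (f := (CC h.eh e0 f0).subtype) h1
        rw [Submodule.map_span, ← Set.image_comp] at h2
        have h3 : ((CC h.eh e0 f0).subtype ∘ e) '' {j | j < i} ⊆
            (Fin.cons e0 fun i => (e i : V) : Fin (n + 1) → V) '' {j | j < i.succ} := by
          rintro _ ⟨j, hj, rfl⟩
          exact ⟨j.succ, Fin.succ_lt_succ_iff.2 hj, rfl⟩
        have h4 := Submodule.span_mono h3 h2
        have h5 : e0 ∈ Submodule.span F ((Fin.cons e0 fun i => (e i : V) : Fin (n + 1) → V) '' {j | j < i.succ}) :=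
          Submodule.subset_span ⟨0, Fin.succ_pos i, rfl⟩
        have h6 : y (e i) - (e i : V) = ((CC h.eh e0 f0).subtype
            (barF (tr (dec h.eh k) y) (e i) - e i)) + x • e0 := by
          rw [hx, Submodule.subtype_apply, Submodule.coe_sub]
          abel
        rw [h6]
        exact Submodule.add_mem _ h4 (Submodule.smul_mem _ _ h5)

end Cfsg.Agent.H539.B3
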