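import Cfsg.Agent.H539.B3.FrameSep

/-!
# The isometry exchanging the two halves of a frame in characteristic two (helper539, task 2823 of helper233, S5761)
-/

set_option autoImplicit false
set_option linter.unusedSectionVars false
set_option linter.unusedVariables false

namespace Cfsg.Agent.H539.B3

open Module Cfsg.Agent.H903.SylSemi Cfsg.Agent.H126.SepStep Cfsg.Agent.H126.SepMain Cfsg.Agent.H126.SepForm
  Cfsg.Agent.H126.SepInd

universe u v

variable {F : Type u} [Field F] {V : Type v} [AddCommGroup V] [Module F V] {β : V → V → F} {q : V → F} {δ : ℕ}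

/-- The linear isometries preserving `q`. -/
def IsoG (F : Type u) [Field F] {V : Type v} [AddCommGroup V] [Module F V] (β : V → V → F) (q : V → F) :
    Subgroup (Equiv.Perm V) where
  carrier := {g | Semi F g (1 : F ≃+* F) ∧ (∀ u v, β (g u) (g v) = β u v) ∧ ∀ v, q (g v) = q v}
  mul_mem' := by
    rintro g g' ⟨h1, h2, h3⟩ ⟨h1', h2', h3'⟩
    refine ⟨?_, fun u v => ?_, fun v => ?_⟩
    · have := semi_mul h1 h1'
      rwa [one_mul] at this
    · rw [Equiv.Perm.mul_apply, Equiv.Perm.mul_apply, h2, h2']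
    · rw [Equiv.Perm.mul_apply, h3, h3']
  one_mem' := ⟨⟨fun _ _ => rfl, fun _ _ => rfl⟩, fun _ _ => rfl, fun _ => rfl⟩
  inv_mem' := by
    rintro g ⟨h1, h2, h3⟩
    refine ⟨?_, fun u v => ?_, fun v => ?_⟩
    · have := semi_inv h1
      rwa [inv_one] at this
    · rw [← h2, perm_apply_inv, perm_apply_inv]
    · rw [← h3, perm_apply_inv]

theorem add_self [CharP F 2] (v : V) : v + v = 0 := by
  rw [← two_smul F v, CharTwo.two_eq_zero, zero_smul]

/-- Transvections. -/
def rr [CharP F 2] (h : EH (1 : F ≃+* F) 1 β) (alt : ∀ v, β v v = 0) (c : F) (w : V) : Equiv.Perm V :=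
  Function.Involutive.toPerm (fun x => x + (c * β x w) • w) (by
    intro x
    change x + (c * β x w) • w + (c * β (x + (c * β x w) • w) w) • w = x
    rw [h.addl, h.smull, alt, mul_zero, add_zero, add_assoc, add_self (F := F), add_zero])

theorem rr_apply [CharP F 2] (h : EH (1 : F ≃+* F) 1 β) (alt : ∀ v, β v v = 0) (c : F) (w x : V) :
    rr h alt c w x = x + (c * β x w) • w := rfl

theorem rr_fix [CharP F 2] (h : EH (1 : F ≃+* F) 1 β) (alt : ∀ v, β v v = 0) (c : F) {w x : V} (hx : β x w = 0) :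
    rr h alt c w x = x := by
  rw [rr_apply, hx, mul_zero, zero_smul, add_zero]

theorem rr_mem [CharP F 2] (h : EH (1 : F ≃+* F) 1 β) (alt : ∀ v, β v v = 0) (c : F) (w : V)
    (hq : ∀ x, q (x + (c * β x w) • w) = q x) : rr h alt c w ∈ IsoG F β q := by
  refine ⟨⟨fun x y => ?_, fun a x => ?_⟩, fun x y => ?_, hq⟩
  · rw [rr_apply, rr_apply, rr_apply, h.addl]
    module
  · rw [rr_apply, rr_apply, h.smull, RingAut.one_apply]
    module
  · rw [rr_apply, rr_apply]
    simp only [h.addl, h.addr, h.smull, h.smulr, alt, RingAut.one_apply, EH.comm' h w y]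
    linear_combination c * β x w * β y w * CharTwo.two_eq_zero (R := F)

theorem exists_g [CharP F 2] {n : ℕ} {e f : Fin n → V} (h : EH (1 : F ≃+* F) 1 β) (alt : ∀ v, β v v = 0)
    {Γ : Subgroup (Equiv.Perm V)} (hF : Fr β q Γ e f)
    (htr : ∀ e f, q e = 0 → q f = 0 → β e f = 1 → ∀ (u : Fˣ) x,
      q (x + (((u⁻¹ : Fˣ) : F) * β x (e + (u : F) • f)) • (e + (u : F) • f)) = q x) (uu : Fin n → Fˣ) :
    ∃ g ∈ IsoG F β q, ∀ i, g (e i) = (uu i : F) • f i ∧ g (f i) = ((uu i)⁻¹ : Fˣ) • e i := by
  classical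
  have hfe : ∀ i j, β (f i) (e j) = if i = j then 1 else 0 := by
    intro i j
    rw [EH.comm' h, hF.ef]
    simp only [eq_comm]
  let w : Fin n → V := fun i => e i + (uu i : F) • f i
  let R : Fin n → Equiv.Perm V := fun i => rr h alt ((uu i)⁻¹ : Fˣ) (w i)
  have hR : ∀ i, R i ∈ IsoG F β q := fun i =>
    rr_mem h alt _ _ (htr _ _ (hF.qe i) (hF.qf i) (by rw [hF.ef, if_pos rfl]) (uu i))
  have hew : ∀ i j, β (e i) (w j) = if i = j then (uu j : F) else 0 := by
    intro i j
    change β (e i) (e j + (uu j : F) • f j) = _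
    rw [h.addr, h.smulr, hF.ee, hF.ef, RingAut.one_apply]
    simp
  have hfw : ∀ i j, β (f i) (w j) = if i = j then 1 else 0 := by
    intro i j
    change β (f i) (e j + (uu j : F) • f j) = _
    rw [h.addr, h.smulr, hF.ff, hfe, mul_zero, add_zero]
  have hRe : ∀ i, R i (e i) = (uu i : F) • f i := by
    intro i
    change rr h alt ((uu i)⁻¹ : Fˣ) (w i) (e i) = _
    rw [rr_apply, hew, if_pos rfl, Units.inv_mul, one_smul]
    change e i + (e i + (uu i : F) • f i) = _
    rw [← add_assoc, add_self (F := F), zero_add]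
  have hRf : ∀ i, R i (f i) = ((uu i)⁻¹ : Fˣ) • e i := by
    intro i
    change rr h alt ((uu i)⁻¹ : Fˣ) (w i) (f i) = _
    rw [rr_apply, hfw, if_pos rfl, mul_one]
    change f i + (((uu i)⁻¹ : Fˣ) : F) • (e i + (uu i : F) • f i) = _
    rw [smul_add, smul_smul, Units.inv_mul, one_smul, add_comm, add_assoc, add_self (F := F), add_zero]
    rfl
  have hRe' : ∀ i j, i ≠ j → R i (e j) = e j := fun i j hij =>
    rr_fix h alt _ (by rw [hew, if_neg (Ne.symm hij)])
  have hRf' : ∀ i j, i ≠ j → R i (f j) = f j := fun i j hij =>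
    rr_fix h alt _ (by rw [hfw, if_neg (Ne.symm hij)])
  have key : ∀ l : List (Fin n), l.Nodup → (l.map R).prod ∈ IsoG F β q ∧ ∀ i,
      (l.map R).prod (e i) = (if i ∈ l then (uu i : F) • f i else e i) ∧
      (l.map R).prod (f i) = (if i ∈ l then ((uu i)⁻¹ : Fˣ) • e i else f i) := by
    intro l
    induction l with
    | nil => exact fun _ => ⟨one_mem _, fun i => ⟨by simp, by simp⟩⟩
    | cons a l ih =>
      intro hl
      rw [List.nodup_cons] at hl
      obtain ⟨ih1, ih2⟩ := ih hl.2
      refine ⟨by rw [List.map_cons, List.prod_cons]; exact mul_mem (hR a) ih1, fun i => ?_⟩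
      have hlin : ∀ (b : F) v, R a (b • v) = b • R a v := fun b v => (hR a).1.2 b v
      rw [List.map_cons, List.prod_cons, Equiv.Perm.mul_apply, Equiv.Perm.mul_apply, (ih2 i).1, (ih2 i).2]
      by_cases hi : i ∈ l
      · have hia : a ≠ i := by rintro rfl; exact hl.1 hi
        rw [if_pos hi, if_pos hi, if_pos (List.mem_cons_of_mem _ hi), if_pos (List.mem_cons_of_mem _ hi), hlin,
          hRf' a i hia, Units.smul_def, hlin, hRe' a i hia]
        exact ⟨rfl, rfl⟩
      · rw [if_neg hi, if_neg hi]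
        by_cases hia : i = a
        · subst hia
          rw [hRe, hRf, if_pos List.mem_cons_self, if_pos List.mem_cons_self]
          exact ⟨rfl, rfl⟩
        · have h3 : i ∉ a :: l := by
            rw [List.mem_cons]
            rintro (h | h)
            · exact hia h
            · exact hi h
          rw [if_neg h3, if_neg h3, hRe' a i (Ne.symm hia), hRf' a i (Ne.symm hia)]
          exact ⟨rfl, rfl⟩
  obtain ⟨k1, k2⟩ := key (List.finRange n) (List.nodup_finRange n)
  refine ⟨_, k1, fun i => ?_⟩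
  have := k2 i
  rwa [if_pos (List.mem_finRange i), if_pos (List.mem_finRange i)] at this

end Cfsg.Agent.H539.B3
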