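import Cfsg.Agent.H539.B3.Frame

/-!
# Separation from an adapted frame in characteristic two (helper539, task 2823 of helper233, S5761)

* `analysis` : `y ∈ Γ` with `a g y g⁻¹ ∈ Γ`, `g` exchanging `e i` and `u i f i`, fixes `e i`, scales `f i`;
* `linear_of` : if moreover `u 0 = 1` and `u 1` is fixed by no field automorphism, then `y` is a linear isometry fixing all
  `e i`, `f i`;
* `ext_frame` : linear maps are equal if they agree on a symplectic basis.
-/

set_option autoImplicit false
set_option linter.unusedSectionVars false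
set_option linter.unusedVariables false

namespace Cfsg.Agent.H539.B3

open Module Cfsg.Agent.H903.SylSemi Cfsg.Agent.H126.SepStep Cfsg.Agent.H126.SepMain Cfsg.Agent.H126.SepForm
  Cfsg.Agent.H126.SepInd

universe u v

variable {F : Type u} [Field F] {V : Type v} [AddCommGroup V] [Module F V] {β : V → V → F} {q : V → F} {δ : ℕ}

/-- Elements of the span of part of a family are determined by the values on the dual family. -/
theorem span_zero {n : ℕ} {e f : Fin n → V} (h : EH (1 : F ≃+* F) 1 β)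
    (hef : ∀ i j, β (e i) (f j) = if i = j then 1 else 0) {S : Set (Fin n)} {w : V}
    (hw : w ∈ Submodule.span F (e '' S)) (hz : ∀ j ∈ S, β w (f j) = 0) : w = 0 := by
  have key : w = ∑ j, β w (f j) • e j ∧ ∀ j, j ∉ S → β w (f j) = 0 := by
    clear hz
    induction hw using Submodule.span_induction with
    | mem x hx =>
      obtain ⟨i, hi, rfl⟩ := hx
      refine ⟨?_, fun j hj => ?_⟩
      · simp [hef]
      · rw [hef, if_neg]
        rintro rfl
        exact hj hi
    | zero => exact ⟨by simp [h.zerol], fun j _ => h.zerol _⟩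
    | add x y _ _ hx hy =>
      refine ⟨?_, fun j hj => by rw [h.addl, hx.2 j hj, hy.2 j hj, add_zero]⟩
      conv_lhs => rw [hx.1, hy.1]
      simp only [h.addl, add_smul, Finset.sum_add_distrib]
    | smul a x _ hx =>
      refine ⟨?_, fun j hj => by rw [h.smull, hx.2 j hj, mul_zero]⟩
      conv_lhs => rw [hx.1]
      simp only [h.smull, mul_smul, Finset.smul_sum]
  rw [key.1]
  apply Finset.sum_eq_zero
  intro j _
  by_cases hj : j ∈ S
  · rw [hz j hj, zero_smul]
  · rw [key.2 j hj, zero_smul]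

theorem EH.comm' (h : EH (1 : F ≃+* F) 1 β) (u v : V) : β u v = β v u := by
  have := h.herm v u
  rwa [one_mul] at this

/-- The analysis of the elements of `Γ ∩ F^* Γ^g`. -/
theorem analysis {n : ℕ} {e f : Fin n → V} (h : EH (1 : F ≃+* F) 1 β) {Γ : Subgroup (Equiv.Perm V)}
    (hF : Fr β q Γ e f) {uu : Fin n → Fˣ} {g : Equiv.Perm V} (hg : Semi F g (1 : F ≃+* F))
    (hge : ∀ i, g (e i) = (uu i : F) • f i) (hgf : ∀ i, g (f i) = ((uu i)⁻¹ : Fˣ) • e i) {y : Equiv.Perm V}
    (hy : y ∈ Γ) {a : Fˣ} (hy1 : scal F V a * (g * y * g⁻¹) ∈ Γ) {θ : F ≃+* F} {τ : F} (hτ : τ ≠ 0)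
    (hθ : Semi F y θ) (hsim : ∀ v w, β (y v) (y w) = τ * θ (β v w)) (i : Fin n) :
    y (e i) = e i ∧ y (f i) = τ • f i ∧ τ * a * θ (uu i) = uu i := by
  have hg1 : ∀ (b : F) (v : V), g (b • v) = b • g v := fun b v => hg.2 b v
  have hfe : ∀ i j, β (f i) (e j) = if i = j then 1 else 0 := by
    intro i j
    rw [EH.comm' h, hF.ef]
    simp only [eq_comm]
  have hginv_e : ∀ i, g⁻¹ (e i) = (uu i : F) • f i := by
    intro i
    apply g.injective
    rw [perm_apply_inv, hg1, hgf, Units.smul_def, smul_smul, Units.mul_inv, one_smul]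
  have hginv : Semi F g⁻¹ (1 : F ≃+* F) := by
    have := semi_inv hg
    rwa [inv_one] at this
  have hθ0 : ∀ b : F, b ≠ 0 → θ b ≠ 0 := fun b hb => by rwa [Ne, map_eq_zero_iff θ θ.injective]
  induction i using WellFoundedLT.induction with
  | ind i ih =>
    -- `y e_i = e_i`
    have h1 : y (e i) = e i := by
      rw [← sub_eq_zero]
      refine span_zero h hF.ef (hF.tri y hy i) fun j hj => ?_
      have h2 := hsim (e i) (f j)
      rw [hF.ef, if_neg (ne_of_gt hj), map_zero, mul_zero, (ih j hj).2.1, h.smulr] at h2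
      have h3 : β (y (e i)) (f j) = 0 := (mul_eq_zero.1 h2).resolve_left hτ
      rw [h.subl, h3, hF.ef, if_neg (ne_of_gt hj), sub_zero]
    -- `y f_i` is a multiple of `f_i`
    have h4 : ((a : F) * θ (uu i)) • y (f i) = (uu i : F) • f i := by
      have h5 : g⁻¹ ((scal F V a * (g * y * g⁻¹)) (e i) - e i) =
          ((a : F) * θ (uu i)) • y (f i) - (uu i : F) • f i := by
        rw [Equiv.Perm.mul_apply, Equiv.Perm.mul_apply, Equiv.Perm.mul_apply, hginv_e, hθ.2, hg1, scal_apply,
          smul_smul, sub_eq_add_neg, hginv.1, ← neg_one_smul F (e i), hginv.2, hginv.2, perm_inv_apply, hginv_e,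
          RingAut.one_apply, RingAut.one_apply, neg_one_smul, ← sub_eq_add_neg]
      rw [← sub_eq_zero]
      refine span_zero (e := f) (f := e) h hfe (S := {j | j < i}) ?_ fun j hj => ?_
      · rw [← h5]
        have h6 := hF.tri _ hy1 i
        revert h6
        generalize (scal F V a * (g * y * g⁻¹)) (e i) - e i = w
        intro h6
        induction h6 using Submodule.span_induction with
        | mem x hx =>
          obtain ⟨j, hj, rfl⟩ := hx
          rw [hginv_e]
          exact Submodule.smul_mem _ _ (Submodule.subset_span ⟨j, hj, rfl⟩)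
        | zero => rw [semi_zero hginv]; exact Submodule.zero_mem _
        | add x y _ _ hx hy => rw [hginv.1]; exact Submodule.add_mem _ hx hy
        | smul b x _ hx => rw [hginv.2]; exact Submodule.smul_mem _ _ hx
      · have h2 := hsim (f i) (e j)
        rw [hfe, if_neg (ne_of_gt hj), map_zero, mul_zero, (ih j hj).1] at h2
        rw [h.subl, h.smull, h.smull, h2, hfe, if_neg (ne_of_gt hj)]
        ring
    have h7 : β (e i) (y (f i)) = τ := by
      have h2 := hsim (e i) (f i)
      rw [hF.ef, if_pos rfl, map_one, mul_one, h1] at h2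
      exact h2
    have h8 : (a : F) * θ (uu i) * τ = uu i := by
      have h9 := congrArg (β (e i)) h4
      rw [h.smulr, h.smulr, h7, hF.ef, if_pos rfl, mul_one] at h9
      exact h9
    refine ⟨h1, ?_, by linear_combination h8⟩
    have h10 : (a : F) * θ (uu i) ≠ 0 := mul_ne_zero a.ne_zero (hθ0 _ (uu i).ne_zero)
    have h11 : ((a : F) * θ (uu i)) • y (f i) = ((a : F) * θ (uu i)) • (τ • f i) := by
      rw [h4, smul_smul, h8]
    exact smul_right_injective V h10 h11

/-- The elements of the intersection are linear. -/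
theorem linear_of [CharP F 2] {n : ℕ} (hn : 2 ≤ n) {e f : Fin n → V} (h : EH (1 : F ≃+* F) 1 β)
    {Γ : Subgroup (Equiv.Perm V)} (hP : PSF 2 F β Γ)
    (hF : Fr β q Γ e f) {uu : Fin n → Fˣ} (hu0 : uu ⟨0, by omega⟩ = 1)
    (hu1 : ∀ θ : F ≃+* F, θ (uu ⟨1, by omega⟩) = uu ⟨1, by omega⟩ → θ = 1) {g : Equiv.Perm V}
    (hg : Semi F g (1 : F ≃+* F))
    (hge : ∀ i, g (e i) = (uu i : F) • f i) (hgf : ∀ i, g (f i) = ((uu i)⁻¹ : Fˣ) • e i) {y : Equiv.Perm V}
    (hy : y ∈ Γ) {a : Fˣ} (hy1 : scal F V a * (g * y * g⁻¹) ∈ Γ) {θ : F ≃+* F} {τ : F} (hτ : τ ≠ 0)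
    (hθ : Semi F y θ) (hsim : ∀ v w, β (y v) (y w) = τ * θ (β v w)) :
    θ = 1 ∧ τ = 1 ∧ ∀ i, y (e i) = e i ∧ y (f i) = f i := by
  have hF2 : Fact (Nat.Prime 2) := ⟨Nat.prime_two⟩
  have key := analysis h hF hg hge hgf hy hy1 hτ hθ hsim
  have k0 := (key ⟨0, by omega⟩).2.2
  have k1 := (key ⟨1, by omega⟩).2.2
  rw [hu0, Units.val_one, map_one, mul_one] at k0
  rw [k0, one_mul] at k1
  have hθ1 := hu1 θ k1
  subst hθ1
  obtain ⟨k, hk⟩ := hP.ps.pow hy
  have hfix : ∀ i, y (f i) = f i := fun i => fix_of_eigen hθ hk (key i).2.1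
  refine ⟨rfl, ?_, fun i => ⟨(key i).1, hfix i⟩⟩
  have h1 := (key ⟨0, by omega⟩).2.1
  rw [hfix] at h1
  have h2 := congrArg (β (e ⟨0, by omega⟩)) h1
  rw [h.smulr, hF.ef, if_pos rfl, mul_one] at h2
  exact h2.symm

/-- A symplectic family of the right size spans. -/
theorem span_frame {N : ℕ} {e f : Fin N → V} [Module.Finite F V] (h : EH (1 : F ≃+* F) 1 β)
    (hee : ∀ i j, β (e i) (e j) = 0) (hff : ∀ i j, β (f i) (f j) = 0)
    (hef : ∀ i j, β (e i) (f j) = if i = j then 1 else 0) (hN : finrank F V = 2 * N) :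
    Submodule.span F (Set.range (Sum.elim e f)) = ⊤ := by
  have hfe : ∀ i j, β (f i) (e j) = if i = j then 1 else 0 := by
    intro i j
    rw [EH.comm' h, hef]
    simp only [eq_comm]
  have hli : LinearIndependent F (Sum.elim e f) := by
    rw [Fintype.linearIndependent_iff]
    intro x hx
    rw [Fintype.sum_sum_type] at hx
    simp only [Sum.elim_inl, Sum.elim_inr] at hx
    have h1 : ∀ w, ∑ i, x (Sum.inl i) * β (e i) w + ∑ i, x (Sum.inr i) * β (f i) w = 0 := by
      intro w
      have h2 := congrArg (fun v => β v w) hx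
      simp only [h.addl, EH_suml h, h.zerol] at h2
      exact h2
    rintro (j | j)
    · have := h1 (f j)
      simpa [hef, hff] using this
    · have := h1 (e j)
      simpa [hfe, hee] using this
  apply hli.span_eq_top_of_card_eq_finrank'
  rw [Fintype.card_sum, Fintype.card_fin, hN, two_mul]

/-- Linear maps agreeing on a symplectic basis are equal. -/
theorem ext_frame {N : ℕ} {e f : Fin N → V} [Module.Finite F V] (h : EH (1 : F ≃+* F) 1 β)
    (hee : ∀ i j, β (e i) (e j) = 0) (hff : ∀ i j, β (f i) (f j) = 0)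
    (hef : ∀ i j, β (e i) (f j) = if i = j then 1 else 0) (hN : finrank F V = 2 * N) {y z : Equiv.Perm V}
    (hy : Semi F y (1 : F ≃+* F)) (hz : Semi F z (1 : F ≃+* F)) (h1 : ∀ i, y (e i) = z (e i))
    (h2 : ∀ i, y (f i) = z (f i)) : y = z := by
  have hspan := span_frame h hee hff hef hN
  ext1 v
  have hv : v ∈ Submodule.span F (Set.range (Sum.elim e f)) := by rw [hspan]; trivial
  induction hv using Submodule.span_induction with
  | mem x hx =>
    obtain ⟨i | i, rfl⟩ := hx
    · exact h1 i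
    · exact h2 i
  | zero => rw [semi_zero hy, semi_zero hz]
  | add x x' _ _ hx hx' => rw [hy.1, hz.1, hx, hx']
  | smul b x _ hx => rw [hy.2, hz.2, hx]

/-- A vector orthogonal to a symplectic basis is zero. -/
theorem zero_frame {N : ℕ} {e f : Fin N → V} [Module.Finite F V] (h : EH (1 : F ≃+* F) 1 β)
    (hee : ∀ i j, β (e i) (e j) = 0) (hff : ∀ i j, β (f i) (f j) = 0)
    (hef : ∀ i j, β (e i) (f j) = if i = j then 1 else 0) (hN : finrank F V = 2 * N) {z : V}
    (h1 : ∀ i, β z (e i) = 0) (h2 : ∀ i, β z (f i) = 0) : z = 0 := by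
  have hspan := span_frame h hee hff hef hN
  apply h.nondeg
  intro v
  have hv : v ∈ Submodule.span F (Set.range (Sum.elim e f)) := by rw [hspan]; trivial
  induction hv using Submodule.span_induction with
  | mem x hx =>
    obtain ⟨i | i, rfl⟩ := hx
    · exact h1 i
    · exact h2 i
  | zero => exact h.zeror z
  | add x x' _ _ hx hx' => rw [h.addr, hx, hx', add_zero]
  | smul b x _ hx => rw [h.smulr, hx, mul_zero]

end Cfsg.Agent.H539.B3
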