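import Cfsg.Agent.H903.SylSemi
import Cfsg.Agent.H233.B3.Row2

/-!
# From semilinear separation up to one element to `G3` (helper539, task 2823 of helper233, S5761)

`good2_of_sep` : the variant of `H903.SylSemi.good_of_sep` where the intersection may contain one nontrivial element.
-/

set_option autoImplicit false
set_option linter.unusedVariables false

namespace Cfsg.Agent.H539.B3

open Cfsg.Agent.H903.SylMeet Cfsg.Agent.H903.SylSemi

section translation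

variable {p : ℕ} [Fact p.Prime] {F : Type*} [Field F] {V : Type*} [AddCommGroup V] [Module F V]
  [Finite V] {T : Type*} [Group T] {X : Type*} [Group X]

theorem good2_of_sep [Finite T] {π : X →* T} (hπ : Function.Surjective π) {ρ : X →* Equiv.Perm V}
    (hρ : Function.Injective ρ) {Y : Equiv.Perm V → Prop}
    (hY1 : Y 1) (hYmul : ∀ y y', Y y → Y y' → Y (y * y'))
    (hYρ : ∀ s : X, Y (ρ s))
    {P : Subgroup (MulAut T)} (hP : IsPGroup p P)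
    (hind : ∀ β ∈ P, ∃ y, Y y ∧ Ind π ρ y β)
    (huniq : ∀ y, Y y → Ind π ρ y 1 → ∃ a : Fˣ, y = scal F V a)
    {X' : Equiv.Perm V → Prop} (hX' : ∀ g, X' g → ∃ s : X, ρ s = g)
    (hsep : ∀ Γ : Subgroup (Equiv.Perm V), IsPGroup p Γ → (∀ y ∈ Γ, Y y) → ∃ g, X' g ∧
      ∀ y ∈ Γ, ∀ y' ∈ Γ, (∃ a : Fˣ, scal F V a * (g * y * g⁻¹) ∈ Γ) →
        (∃ a : Fˣ, scal F V a * (g * y' * g⁻¹) ∈ Γ) → y ≠ 1 → y' ≠ 1 → y = y') :
    ∃ x : T, ∀ β ∈ P, ∀ β' ∈ P, MulAut.conj x * β * (MulAut.conj x)⁻¹ ∈ P →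
      MulAut.conj x * β' * (MulAut.conj x)⁻¹ ∈ P → β ≠ 1 → β' ≠ 1 → β = β' := by
  classical
  have hYpow : ∀ y, Y y → ∀ n : ℕ, Y (y ^ n) := by
    intro y hy n
    induction n with
    | zero => simpa using hY1
    | succ n ih => rw [pow_succ]; exact hYmul _ _ ih hy
  have hYinv : ∀ y, Y y → Y y⁻¹ := by
    intro y hy
    have e1 : y ^ (orderOf y - 1) = y⁻¹ := by
      rw [eq_inv_iff_mul_eq_one, ← pow_succ, Nat.sub_add_cancel (orderOf_pos y),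
        pow_orderOf_eq_one]
    rw [← e1]; exact hYpow _ hy _
  let Γh : Subgroup (Equiv.Perm V) :=
    { carrier := {y | Y y ∧ ∃ β ∈ P, Ind π ρ y β}
      mul_mem' := by
        rintro y y' ⟨h1, β, h2, h3⟩ ⟨h1', β', h2', h3'⟩
        exact ⟨hYmul _ _ h1 h1', β * β', P.mul_mem h2 h2', h3.mul h3'⟩
      one_mem' := ⟨hY1, 1, P.one_mem, Ind.one π ρ⟩
      inv_mem' := by
        rintro y ⟨h1, β, h2, h3⟩
        exact ⟨hYinv _ h1, β⁻¹, P.inv_mem h2, h3.inv⟩ }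
  have hch : ∀ y : Γh, ∃ β : P, Ind π ρ (y : Equiv.Perm V) (β : MulAut T) := by
    rintro ⟨y, h1, β, h2, h3⟩
    exact ⟨⟨β, h2⟩, h3⟩
  choose ψ0 hψ0 using hch
  let ψ : Γh →* P := MonoidHom.mk' ψ0 (by
    intro a b
    apply Subtype.ext
    exact Ind.unique hπ hρ (hψ0 (a * b)) ((hψ0 a).mul (hψ0 b)))
  have hψ : ∀ y : Γh, Ind π ρ (y : Equiv.Perm V) (ψ y : MulAut T) := hψ0
  have hψs : Function.Surjective ψ := by
    rintro ⟨β, hβ⟩
    obtain ⟨y, hy, hyβ⟩ := hind β hβ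
    refine ⟨⟨y, hy, β, hβ, hyβ⟩, ?_⟩
    apply Subtype.ext
    exact Ind.unique hπ hρ (hψ _) hyβ
  let S : Sylow p Γh := default
  have hSmap : (S : Subgroup Γh).map ψ = ⊤ := by
    have h1 : ((S.mapSurjective hψs : Sylow p P) : Subgroup P) = (S : Subgroup Γh).map ψ :=
      Sylow.coe_mapSurjective hψs S
    rw [← h1]
    have htop : IsPGroup p (⊤ : Subgroup P) := hP.of_equiv Subgroup.topEquiv.symm
    exact ((S.mapSurjective hψs).3 htop le_top).symm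
  let Γ : Subgroup (Equiv.Perm V) := (S : Subgroup Γh).map Γh.subtype
  have hΓ : ∀ y, y ∈ Γ ↔ ∃ h : y ∈ Γh, (⟨y, h⟩ : Γh) ∈ S := by
    intro y
    constructor
    · rintro ⟨z, hz, rfl⟩
      exact ⟨z.2, hz⟩
    · rintro ⟨h, hz⟩
      exact ⟨⟨y, h⟩, hz, rfl⟩
  have hΓY : ∀ y ∈ Γ, Y y := fun y hy => by
    obtain ⟨h, -⟩ := (hΓ y).1 hy
    exact h.1
  obtain ⟨g, hg, hsepg⟩ := hsep Γ (S.2.map _) hΓY
  obtain ⟨s, rfl⟩ := hX' g hg
  have hlift : ∀ β ∈ P, ∃ y ∈ Γ, Ind π ρ y β := by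
    intro β hβ
    have h1 : (⟨β, hβ⟩ : P) ∈ (S : Subgroup Γh).map ψ := hSmap ▸ Subgroup.mem_top _
    obtain ⟨y, hy, hyβ⟩ := h1
    refine ⟨y, (hΓ _).2 ⟨y.2, hy⟩, ?_⟩
    have h2 := hψ y
    rw [hyβ] at h2
    exact h2
  have key : ∀ β ∈ P, MulAut.conj (π s) * β * (MulAut.conj (π s))⁻¹ ∈ P →
      ∃ y ∈ Γ, Ind π ρ y β ∧ ∃ a : Fˣ, scal F V a * (ρ s * y * (ρ s)⁻¹) ∈ Γ := by
    intro β hβ hβ'
    obtain ⟨y, hy, hyβ⟩ := hlift β hβ
    obtain ⟨y', hy', hyβ'⟩ := hlift _ hβ'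
    have h1 : Ind π ρ (ρ s * y * (ρ s)⁻¹) (MulAut.conj (π s) * β * (MulAut.conj (π s))⁻¹) :=
      ((Ind.conj π ρ s).mul hyβ).mul (Ind.conj π ρ s).inv
    have h2 : Ind π ρ (y' * (ρ s * y * (ρ s)⁻¹)⁻¹) 1 := by
      have h3 := hyβ'.mul h1.inv
      rwa [mul_inv_cancel] at h3
    obtain ⟨a, ha⟩ := huniq _ (hYmul _ _ (hΓY _ hy') (hYinv _ (hYmul _ _ (hYmul _ _ (hYρ s) (hΓY _ hy))
      (hYinv _ (hYρ s))))) h2
    refine ⟨y, hy, hyβ, a, ?_⟩
    rw [← ha]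
    have : y' * (ρ s * y * (ρ s)⁻¹)⁻¹ * (ρ s * y * (ρ s)⁻¹) = y' := by group
    rw [this]; exact hy'
  refine ⟨π s, fun β hβ β' hβ' h1 h1' h2 h2' => ?_⟩
  obtain ⟨y, hy, hyβ, hya⟩ := key β hβ h1
  obtain ⟨y', hy', hyβ', hya'⟩ := key β' hβ' h1'
  have h3 : y ≠ 1 := by
    rintro rfl
    exact h2 (Ind.unique hπ hρ hyβ (Ind.one π ρ))
  have h3' : y' ≠ 1 := by
    rintro rfl
    exact h2' (Ind.unique hπ hρ hyβ' (Ind.one π ρ))
  have h4 := hsepg y hy y' hy' hya hya' h3 h3'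
  subst h4
  exact Ind.unique hπ hρ hyβ hyβ'

end translation

open Cfsg.Agent.H233.B3 in
/-- At most one nontrivial element. -/
theorem card_DD_le_two {T : Type*} [Group T] [Finite T] {P : Subgroup (MulAut T)} {x : T}
    (h : ∀ β ∈ P, ∀ β' ∈ P, MulAut.conj x * β * (MulAut.conj x)⁻¹ ∈ P →
      MulAut.conj x * β' * (MulAut.conj x)⁻¹ ∈ P → β ≠ 1 → β' ≠ 1 → β = β') : Nat.card (DD P x) ≤ 2 := by
  classical
  have _ : Fintype (DD P x) := Fintype.ofFinite _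
  rw [Nat.card_eq_fintype_card]
  by_contra hcon
  push Not at hcon
  obtain ⟨a, ha⟩ : ∃ a : DD P x, a ≠ 1 := by
    by_contra h0
    push Not at h0
    have : Fintype.card (DD P x) ≤ 1 := Fintype.card_le_one_iff.2 fun a b => by rw [h0 a, h0 b]
    omega
  have h1 : (Finset.univ : Finset (DD P x)) ⊆ {1, a} := by
    intro b _
    by_cases hb : b = 1
    · simp [hb]
    · have : b = a := Subtype.ext (h b (mem_DD.1 b.2).1 a (mem_DD.1 a.2).1 (mem_DD.1 b.2).2 (mem_DD.1 a.2).2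
        (fun e => hb (Subtype.ext e)) fun e => ha (Subtype.ext e))
      simp [this]
  have h2 := (Finset.card_le_card h1).trans Finset.card_le_two
  rw [Finset.card_univ] at h2
  omega

end Cfsg.Agent.H539.B3
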